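import Mathlib
import Cfsg.Agent.Lib.Helper41.CS3.GoodDefs
import Cfsg.Agent.Lib.Helper67.SylowLemmas

/-!
# CS3 (S4284), part GOOD: package [COVER]

A finite group is not the union of the conjugates of a proper subgroup.
-/

set_option autoImplicit false

namespace Cfsg.Agent.Lib.Helper87.CS3

open Cfsg.Agent.Lib.Helper41.CS3

universe u

theorem pkgCover : PkgCover.{u} := by
  intro G _ _ H hH
  by_contra hcon
  push Not at hcon
  apply hH
  apply Cfsg.Agent.Lib.Helper67.eq_top_of_forall_exists_conj_mem H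
  intro x
  obtain ⟨g, hg⟩ := hcon x
  refine ⟨g⁻¹, ?_⟩
  rw [inv_inv]
  exact hg

end Cfsg.Agent.Lib.Helper87.CS3
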