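import Mathlib
import Cfsg.Agent.Lib.Helper41.CS3.GoodDefs
import Cfsg.Agent.Lib.Helper24.CS3.Basics
import Cfsg.Agent.S4127

/-!
# CS3 (S4284), part GOOD: package [G5]

`m = s ^ j` a prime power, a good element exists and no `r`-element (`r ∤ m`) has class size
`m n`: then `G` has a normal `s`-complement `K` (S4127), and `K` is abelian.
-/

set_option autoImplicit false

namespace Cfsg.Agent.Lib.Helper87.CS3

open Cfsg.Agent.Lib.Helper41.CS3 Cfsg.Agent.Lib.Helper81.CS3

universe u

/-- `|H| = |H ⊓ K| * |H : H ⊓ K|`. -/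
theorem g5_card_eq_inf_mul_relIndex {G : Type u} [Group G] (H K : Subgroup G) :
    Nat.card H = Nat.card (H ⊓ K : Subgroup G) * K.relIndex H := by
  have h := Subgroup.relIndex_mul_relIndex (H := (⊥ : Subgroup G)) (K := H ⊓ K) (L := H)
    bot_le inf_le_left
  rw [Subgroup.relIndex_bot_left, Subgroup.relIndex_bot_left, Subgroup.inf_relIndex_left] at h
  exact h.symm

/-- a normal Hall `s'`-subgroup with `s`-power index lies in every subgroup of `s`-power
index. -/
theorem g5_le_of_normal_hall {G : Type u} [Group G] [Finite G] (K H : Subgroup G) [K.Normal]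
    (s : ℕ) (hKs : (Nat.card K).Coprime s) (hKi : ∃ i : ℕ, K.index = s ^ i)
    (hHi : ∃ i : ℕ, H.index = s ^ i) : K ≤ H := by
  obtain ⟨i, hi⟩ := hKi
  obtain ⟨i', hi'⟩ := hHi
  have h1 : K.relIndex H ∣ K.index := Subgroup.relIndex_dvd_index_of_normal K H
  have h2 := g5_card_eq_inf_mul_relIndex H K
  have h3 : Nat.card K ∣ Nat.card H := by
    have ha : Nat.card K ∣ H.index * Nat.card H := by
      rw [Subgroup.index_mul_card]
      exact Subgroup.card_subgroup_dvd_card K
    have hc : (Nat.card K).Coprime H.index := by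
      rw [hi']
      exact Nat.Coprime.pow_right i' hKs
    exact hc.dvd_of_dvd_mul_left ha
  have h4 : Nat.card K ∣ Nat.card (H ⊓ K : Subgroup G) := by
    rw [h2] at h3
    have hc : (Nat.card K).Coprime (K.relIndex H) := by
      rw [hi] at h1
      exact Nat.Coprime.coprime_dvd_right h1 (Nat.Coprime.pow_right i hKs)
    exact hc.dvd_of_dvd_mul_right h3
  have h5 : H ⊓ K = K :=
    Subgroup.eq_of_le_of_card_ge inf_le_right (Nat.le_of_dvd Nat.card_pos h4)
  exact inf_eq_right.mp h5

/-- if every element of prime power order of `K` is central in `K` then `K` is abelian. -/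
theorem g5_central_of_primary {G : Type u} [Group G] [Finite G] (K : Subgroup G)
    (hprim : ∀ (r : ℕ) (v : G), r.Prime → v ∈ K → Prim r v → ∀ k ∈ K, v * k = k * v) :
    ∀ g ∈ K, ∀ k ∈ K, g * k = k * g := by
  have key : ∀ N : ℕ, ∀ g ∈ K, orderOf g = N → ∀ k ∈ K, g * k = k * g := by
    intro N
    induction N using Nat.strong_induction_on with
    | _ N ih =>
      intro g hg hN k hk
      by_cases h1 : N = 1
      · have hg1 : g = 1 := orderOf_eq_one_iff.mp (hN.trans h1)
        rw [hg1, one_mul, mul_one]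
      have hNpos : 0 < N := hN ▸ orderOf_pos g
      obtain ⟨p, hpdef⟩ : ∃ p : ℕ, p = N.minFac := ⟨_, rfl⟩
      have hpp : p.Prime := hpdef ▸ Nat.minFac_prime h1
      have hpN : p ∣ N := hpdef ▸ Nat.minFac_dvd N
      obtain ⟨e, hedef⟩ : ∃ e : ℕ, e = N.factorization p := ⟨_, rfl⟩
      obtain ⟨c, hcdef⟩ : ∃ c : ℕ, c = N / p ^ e := ⟨_, rfl⟩
      have hNc : p ^ e * c = N := by
        rw [hcdef, hedef]
        exact Nat.ordProj_mul_ordCompl_eq_self N p
      have hcop : Nat.Coprime (p ^ e) c := by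
        rw [hcdef, hedef]
        exact (Nat.coprime_ordCompl hpp hNpos.ne').pow_left _
      have he : 0 < e := by
        rw [hedef]
        exact hpp.factorization_pos_of_dvd hNpos.ne' hpN
      have hcpos : 0 < c := by
        rcases Nat.eq_zero_or_pos c with h0 | h0
        · rw [h0, mul_zero] at hNc
          omega
        · exact h0
      have hpe : 2 ≤ p ^ e := by
        calc 2 ≤ p := hpp.two_le
          _ = p ^ 1 := (pow_one p).symm
          _ ≤ p ^ e := Nat.pow_le_pow_right hpp.pos he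
      have hcN : c < N := by
        rw [← hNc]
        nlinarith
      have hb := Nat.gcd_eq_gcd_ab (p ^ e) c
      rw [hcop.gcd_eq_one] at hb
      obtain ⟨A, hA⟩ : ∃ A : ℤ, A = Nat.gcdA (p ^ e) c := ⟨_, rfl⟩
      obtain ⟨B, hB⟩ : ∃ B : ℤ, B = Nat.gcdB (p ^ e) c := ⟨_, rfl⟩
      rw [← hA, ← hB] at hb
      have hg1 : g ^ ((c : ℤ) * B) ∈ K := K.zpow_mem hg _
      have hg2 : g ^ (((p ^ e : ℕ) : ℤ) * A) ∈ K := K.zpow_mem hg _
      have hgeq : g = g ^ (((p ^ e : ℕ) : ℤ) * A) * g ^ ((c : ℤ) * B) := by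
        rw [← zpow_add, ← hb]
        simp
      have hNz : ((p ^ e : ℕ) : ℤ) * (c : ℤ) = (N : ℤ) := by
        rw [← hNc]
        push_cast
        ring
      have hgN : ∀ z : ℤ, g ^ ((N : ℤ) * z) = 1 := by
        intro z
        rw [zpow_mul, zpow_natCast, ← hN, pow_orderOf_eq_one, one_zpow]
      have ho1 : (g ^ ((c : ℤ) * B)) ^ (p ^ e) = 1 := by
        rw [← zpow_natCast, ← zpow_mul]
        have h : (c : ℤ) * B * ((p ^ e : ℕ) : ℤ) = (N : ℤ) * B := by
          rw [← hNz]
          ring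
        rw [h, hgN]
      have ho2 : (g ^ (((p ^ e : ℕ) : ℤ) * A)) ^ c = 1 := by
        rw [← zpow_natCast, ← zpow_mul]
        have h : ((p ^ e : ℕ) : ℤ) * A * (c : ℤ) = (N : ℤ) * A := by
          rw [← hNz]
          ring
        rw [h, hgN]
      have hP1 : Prim p (g ^ ((c : ℤ) * B)) := by
        obtain ⟨i, -, hi⟩ := (Nat.dvd_prime_pow hpp).mp (orderOf_dvd_of_pow_eq_one ho1)
        exact ⟨i, hi⟩
      have hc1 := hprim p _ hpp hg1 hP1 k hk
      have hlt : orderOf (g ^ (((p ^ e : ℕ) : ℤ) * A)) < N := by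
        have hle := Nat.le_of_dvd hcpos (orderOf_dvd_of_pow_eq_one ho2)
        omega
      have hc2 := ih _ hlt _ hg2 rfl k hk
      rw [hgeq, mul_assoc, hc1, ← mul_assoc, hc2, mul_assoc]
  exact fun g hg => key _ g hg rfl

theorem pkgG5 : PkgG5.{u} := by
  intro G _ _ m n hyp s a hgood hj hG4d
  obtain ⟨j, hj⟩ := hj
  have hs : s.Prime := hgood.sp
  haveI : Fact s.Prime := ⟨hs⟩
  have hcop : m.Coprime n := hyp.2.2.2.1
  have hsn : ¬ s ∣ n := by
    intro h
    have h1 := Nat.dvd_gcd hgood.sm h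
    rw [hcop.gcd_eq_one] at h1
    exact hs.one_lt.ne' (Nat.dvd_one.mp h1)
  have hsn' : Nat.Coprime s n := (Nat.Prime.coprime_iff_not_dvd hs).mpr hsn
  have hlt1 : 1 < s ^ (j + 1) := Nat.one_lt_pow (by omega) hs.one_lt
  have hndvd : ¬ s ^ (j + 1) ∣ s ^ j := by
    intro h
    have := (Nat.pow_dvd_pow_iff_le_right hs.one_lt).mp h
    omega
  have hmax : ∀ y : G, ¬ s ^ (j + 1) ∣ (Subgroup.centralizer ({y} : Set G)).index := by
    intro y hd
    rcases Cfsg.Agent.Lib.Helper24.CS3.index_mem hyp y with h | h | h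
    · rw [h] at hd
      have := Nat.le_of_dvd one_pos hd
      omega
    · rw [h, hj] at hd
      exact hndvd hd
    · rw [h, hj] at hd
      exact hndvd ((Nat.Coprime.pow_left (j + 1) hsn').dvd_of_dvd_mul_right hd)
  have hx : ∃ x : G, (∃ k : ℕ, orderOf x = s ^ k) ∧
      (Subgroup.centralizer ({x} : Set G)).index = s ^ j :=
    ⟨a, hgood.prim, by rw [← hj]; exact hgood.ixa⟩
  obtain ⟨P, K, hKn, hKP⟩ := Cfsg.Agent.S4127.result s j hmax hx
  haveI := hKn
  have hPi : (P : Subgroup G).index = Nat.card K := hKP.index_eq_card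
  have hKi : K.index = Nat.card (P : Subgroup G) := hKP.symm.index_eq_card
  obtain ⟨v, hv⟩ := P.2.exists_card_eq
  have hKi' : K.index = s ^ v := hKi.trans hv
  have hKs : (Nat.card K).Coprime s := by
    have h1 : ¬ s ∣ Nat.card K := by
      rw [← hPi]
      exact P.not_dvd_index
    exact ((Nat.Prime.coprime_iff_not_dvd hs).mpr h1).symm
  have hprim : ∀ (r : ℕ) (w : G), r.Prime → w ∈ K → Prim r w → ∀ k ∈ K, w * k = k * w := by
    intro r w hr hw hP k hk
    have hle : K ≤ Cn w := by
      apply g5_le_of_normal_hall K (Cn w) s hKs ⟨v, hKi'⟩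
      by_cases hrm : r ∣ m
      · have hrs : r = s := by
          rw [hj] at hrm
          exact (Nat.prime_dvd_prime_iff_eq hr hs).mp (hr.dvd_of_dvd_pow hrm)
        obtain ⟨i, hi⟩ := hP
        have h1 : orderOf w ∣ Nat.card K := by
          have h := orderOf_dvd_natCard (⟨w, hw⟩ : K)
          rwa [← Subgroup.orderOf_coe] at h
        have h2 : (orderOf w).Coprime (Nat.card K) := by
          rw [hi, hrs]
          exact Nat.Coprime.pow_left i hKs.symm
        have h3 : orderOf w = 1 := Nat.Coprime.eq_one_of_dvd h2 h1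
        have h4 : w = 1 := orderOf_eq_one_iff.mp h3
        refine ⟨0, ?_⟩
        have h5 : Cn w = ⊤ := by
          rw [Subgroup.centralizer_eq_top_iff_subset, h4]
          intro z hz
          rw [Set.mem_singleton_iff] at hz
          rw [hz]
          exact Subgroup.one_mem _
        rw [h5, Subgroup.index_top, pow_zero]
      · have hne := hG4d r w hr hrm hP
        rcases Cfsg.Agent.Lib.Helper24.CS3.index_mem hyp w with h | h | h
        · exact ⟨0, by rw [pow_zero]; exact h⟩
        · exact ⟨j, by rw [← hj]; exact h⟩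
        · exact absurd h hne
    have hk' := hle hk
    exact (Subgroup.mem_centralizer_singleton_iff.mp hk').symm
  have hab := g5_central_of_primary K hprim
  refine ⟨K, hKn, ⟨⟨fun x y => Subtype.ext (hab x.1 x.2 y.1 y.2)⟩⟩, ?_, ?_⟩
  · rw [hj]
    exact Nat.Coprime.pow_right j hKs
  · rw [hKi']
    exact Nat.Coprime.pow_left v hsn'

end Cfsg.Agent.Lib.Helper87.CS3
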