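import Mathlib
import Cfsg.Agent.Lib.Helper41.CS3.GoodDefs

/-!
# CS3 (S4284), part GOOD: package [SYLOW]

A `p`-subgroup is conjugate into any subgroup of index prime to `p` (fixed point of the
`p`-group acting on the cosets).
-/

set_option autoImplicit false

namespace Cfsg.Agent.Lib.Helper87.CS3

open Cfsg.Agent.Lib.Helper41.CS3

universe u

theorem pkgSylow : PkgSylow.{u} := by
  intro G _ _ p hp K H hK hH
  haveI : Fact p.Prime := ⟨hp⟩
  have hne : (MulAction.fixedPoints (↥K) (G ⧸ H)).Nonempty :=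
    hK.nonempty_fixed_point_of_prime_not_dvd_card (G ⧸ H) hH
  obtain ⟨q, hq⟩ := hne
  obtain ⟨g, rfl⟩ := QuotientGroup.mk_surjective q
  refine ⟨g⁻¹, fun x hx => ?_⟩
  have h1 := hq ⟨x, hx⟩
  have h2 : ((x * g : G) : G ⧸ H) = (g : G ⧸ H) := h1
  rw [QuotientGroup.eq] at h2
  have h3 := H.inv_mem h2
  have h4 : (((x * g)⁻¹ * g)⁻¹ : G) = g⁻¹ * x * g⁻¹⁻¹ := by group
  rw [h4] at h3
  exact h3

end Cfsg.Agent.Lib.Helper87.CS3
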